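import Mathlib
import Cfsg.Agent.GpExc.TwNode
import Cfsg.Agent.ClosedExc.Frame
import Cfsg.Agent.ChevalleyStructure.BruhatSplit

-- merged: Cfsg.Agent.ClosedTw.Node
section

/-!
# The rank one subgroups of `²E₆(q)`, `q` odd (helper75, S1252)

* `phi_ker`, `pair_ker` : the kernels of `SL₂(F) → ²E₆(q)` are contained in `{1, -1}`;
* `isSL` : `IsSL (LL X (sr i))`.
-/

set_option autoImplicit false
set_option linter.unusedSectionVars false

namespace Cfsg.Agent.ClosedTw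

open CoxeterSystem Subgroup
open Cfsg.Agent.ChevalleyStructure.CoxeterGeom Cfsg.Agent.Tits.Roots Cfsg.Agent.Tits.Core
  Cfsg.Agent.Nodes.Reps Cfsg.Agent.Nodes.BNOf Cfsg.Agent.Nodes.Bruhat
open Cfsg.Lie Cfsg.Agent.ChevalleyStructure Cfsg.Agent.ChevalleyStructure.Elts
  Cfsg.Agent.ChevalleyStructure.TwE6Basic Cfsg.Agent.ChevalleyStructure.TwE6BN
open Cfsg.Agent.Nodes Cfsg.Agent.Nodes.RGDChev Cfsg.Agent.Nodes.RGDFold Cfsg.Agent.Nodes.RGDTwGen
open Cfsg.Agent.Nodes.RGDTwE6 (X nn isCartan foldData)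
open Cfsg.Agent.ChevalleyStructure.SL2Rep (Good)
open Cfsg.Agent.ChevalleyStructure.SL2Hom
open Cfsg.Agent.GpExc Cfsg.Agent.GpExc.TwNode
open Cfsg.Agent.ClosedTwo.Torus Cfsg.Agent.ClosedTwo.Elem Cfsg.Agent.ClosedExc Cfsg.Agent.ClosedExc.Rk

theorem inv_up {F : Type*} [Field F] (t : F) : (up t)⁻¹ = up (-t) := by
  rw [inv_eq_iff_mul_eq_one]
  apply Subtype.ext
  show !![(1 : F), t; 0, 1] * !![1, -t; 0, 1] = 1
  ext i j
  fin_cases i <;> fin_cases j <;> simp [Matrix.mul_apply, Fin.sum_univ_two]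

theorem inv_lo {F : Type*} [Field F] (t : F) : (lo t)⁻¹ = lo (-t) := by
  rw [inv_eq_iff_mul_eq_one]
  apply Subtype.ext
  show !![(1 : F), 0; t, 1] * !![1, 0; -t, 1] = 1
  ext i j
  fin_cases i <;> fin_cases j <;> simp [Matrix.mul_apply, Fin.sum_univ_two]

/-- an element commuting with `up 1` and `lo 1` up to sign is `± 1` -/
theorem eq_pm_one {F : Type*} [Field F] (h2 : (2 : F) ≠ 0) {g : Matrix.SpecialLinearGroup (Fin 2) F}
    (h : ∀ k : Matrix.SpecialLinearGroup (Fin 2) F, g * k * g⁻¹ * k⁻¹ = 1 ∨ g * k * g⁻¹ * k⁻¹ = -1) :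
    g = 1 ∨ g = -1 := by
  have hc : ∀ t : F, g * up t = up t * g ∧ g * lo t = lo t * g := by
    intro t
    constructor
    · rcases h (up t) with h1 | h1
      · have h3 : g * up t * g⁻¹ = up t := by rwa [mul_inv_eq_one] at h1
        rwa [mul_inv_eq_iff_eq_mul] at h3
      · exfalso
        have h3 : g * up t * g⁻¹ = -1 * up t := by rwa [mul_inv_eq_iff_eq_mul] at h1
        have h4 := congrArg (fun z : Matrix.SpecialLinearGroup (Fin 2) F => Matrix.trace z.1) h3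
        simp only [Matrix.SpecialLinearGroup.coe_mul] at h4
        rw [Matrix.trace_mul_cycle, ← Matrix.SpecialLinearGroup.coe_mul, inv_mul_cancel,
          Matrix.SpecialLinearGroup.coe_one, one_mul] at h4
        have h5 : Matrix.trace ((up t : Matrix.SpecialLinearGroup (Fin 2) F) : Matrix (Fin 2) (Fin 2) F) = 2 := by
          show Matrix.trace !![(1 : F), t; 0, 1] = 2
          simp [Matrix.trace_fin_two]
          norm_num
        have h6 : Matrix.trace (((-1 : Matrix.SpecialLinearGroup (Fin 2) F) : Matrix (Fin 2) (Fin 2) F) *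
            ((up t : Matrix.SpecialLinearGroup (Fin 2) F) : Matrix (Fin 2) (Fin 2) F)) = -2 := by
          rw [Matrix.SpecialLinearGroup.coe_neg, Matrix.SpecialLinearGroup.coe_one, neg_one_mul, Matrix.trace_neg, h5]
        rw [h6, h5] at h4
        apply h2
        have h7 : (2 : F) * 2 = 0 := by linear_combination h4
        exact (mul_self_eq_zero.1 h7)
    · rcases h (lo t) with h1 | h1
      · have h3 : g * lo t * g⁻¹ = lo t := by rwa [mul_inv_eq_one] at h1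
        rwa [mul_inv_eq_iff_eq_mul] at h3
      · exfalso
        have h3 : g * lo t * g⁻¹ = -1 * lo t := by rwa [mul_inv_eq_iff_eq_mul] at h1
        have h4 := congrArg (fun z : Matrix.SpecialLinearGroup (Fin 2) F => Matrix.trace z.1) h3
        simp only [Matrix.SpecialLinearGroup.coe_mul] at h4
        rw [Matrix.trace_mul_cycle, ← Matrix.SpecialLinearGroup.coe_mul, inv_mul_cancel,
          Matrix.SpecialLinearGroup.coe_one, one_mul] at h4
        have h5 : Matrix.trace ((lo t : Matrix.SpecialLinearGroup (Fin 2) F) : Matrix (Fin 2) (Fin 2) F) = 2 := by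
          show Matrix.trace !![(1 : F), 0; t, 1] = 2
          simp [Matrix.trace_fin_two]
          norm_num
        have h6 : Matrix.trace (((-1 : Matrix.SpecialLinearGroup (Fin 2) F) : Matrix (Fin 2) (Fin 2) F) *
            ((lo t : Matrix.SpecialLinearGroup (Fin 2) F) : Matrix (Fin 2) (Fin 2) F)) = -2 := by
          rw [Matrix.SpecialLinearGroup.coe_neg, Matrix.SpecialLinearGroup.coe_one, neg_one_mul, Matrix.trace_neg, h5]
        rw [h6, h5] at h4
        apply h2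
        have h7 : (2 : F) * 2 = 0 := by linear_combination h4
        exact (mul_self_eq_zero.1 h7)
  have h1 := congrArg Subtype.val (hc 1).1
  have h3 := congrArg Subtype.val (hc 1).2
  have e1 : g.1 * !![(1 : F), 1; 0, 1] = !![1, 1; 0, 1] * g.1 := h1
  have e3 : g.1 * !![(1 : F), 0; 1, 1] = !![1, 0; 1, 1] * g.1 := h3
  have a1 := congrFun (congrFun e1 0) 0
  have a2 := congrFun (congrFun e1 0) 1
  have a3 := congrFun (congrFun e3 0) 0
  simp [Matrix.mul_apply, Fin.sum_univ_two] at a1 a2 a3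
  have hdet : g.1 0 0 * g.1 1 1 - g.1 0 1 * g.1 1 0 = 1 := by
    rw [← Matrix.det_fin_two]; exact g.2
  have a4 : g.1 0 0 = g.1 1 1 := by linear_combination a2
  rw [a1, mul_zero, sub_zero, ← a4] at hdet
  rcases mul_self_eq_one_iff.1 hdet with h5 | h5
  · left
    apply Subtype.ext
    ext i j
    fin_cases i <;> fin_cases j <;> simp [a1, a3, h5, ← a4]
  · right
    apply Subtype.ext
    ext i j
    fin_cases i <;> fin_cases j <;> simp [a1, a3, h5, ← a4]

theorem phi_ker {D : ChevalleyDatum} {r : ℕ} {F : Type*} [Field F] (h2 : (2 : F) ≠ 0) (hG : Good D r)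
    {g : Matrix.SpecialLinearGroup (Fin 2) F} (hg : phi hG F g = 1) : g = 1 ∨ g = -1 := by
  have hk : ∀ k : Matrix.SpecialLinearGroup (Fin 2) F,
      (k * g * k⁻¹).1 0 0 ^ 2 = 1 ∧ (k * g * k⁻¹).1 0 0 * (k * g * k⁻¹).1 1 0 = 0 := by
    intro k
    have h1 : phi hG F (k * g * k⁻¹) = phi hG F 1 := by
      rw [map_mul, map_mul, map_inv, hg, map_one]; group
    obtain ⟨h3, h4⟩ := ETable.Exc.phi_sep hG h1
    have h4 := h4 h2
    have e1 : ((1 : Matrix.SpecialLinearGroup (Fin 2) F).1 0 0) = 1 := by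
      show (1 : Matrix (Fin 2) (Fin 2) F) 0 0 = 1
      simp
    have e2 : ((1 : Matrix.SpecialLinearGroup (Fin 2) F).1 1 0) = 0 := by
      show (1 : Matrix (Fin 2) (Fin 2) F) 1 0 = 0
      simp
    rw [e1, one_pow] at h3
    rw [e2, mul_zero] at h4
    exact ⟨h3, h4⟩
  have h10 : ∀ k : Matrix.SpecialLinearGroup (Fin 2) F, (k * g * k⁻¹).1 1 0 = 0 := by
    intro k
    obtain ⟨h3, h4⟩ := hk k
    rcases mul_eq_zero.1 h4 with h5 | h5
    · rw [h5] at h3
      exact absurd h3 (by norm_num)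
    · exact h5
  have a1 : g.1 1 0 = 0 := by simpa using h10 1
  have a2 : g.1 0 0 ^ 2 = 1 := by simpa using (hk 1).1
  have hdet : g.1 0 0 * g.1 1 1 - g.1 0 1 * g.1 1 0 = 1 := by
    rw [← Matrix.det_fin_two]; exact g.2
  have a4 : g.1 1 1 = g.1 0 0 := by
    rw [a1, mul_zero, sub_zero] at hdet
    have h0 : g.1 0 0 ≠ 0 := by
      rintro h0
      rw [h0] at a2
      norm_num at a2
    have : g.1 0 0 * (g.1 1 1 - g.1 0 0) = 0 := by linear_combination hdet - a2
    rcases mul_eq_zero.1 this with h5 | h5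
    · exact absurd h5 h0
    · linear_combination h5
  have a3 : g.1 0 1 = 0 := by
    have h3 := h10 (up 1 * lo (-1) * up 1)
    have h5 : ((up (1 : F) * lo (-1) * up 1) * g * (up (1 : F) * lo (-1) * up 1)⁻¹).1 1 0 = -g.1 0 1 := by
      rw [mul_inv_rev, mul_inv_rev, inv_up, inv_lo, neg_neg]
      show ((!![(1 : F), 1; 0, 1] * !![1, 0; -1, 1] * !![1, 1; 0, 1]) * g.1 *
        (!![(1 : F), -1; 0, 1] * (!![1, 0; 1, 1] * !![1, -1; 0, 1])) : Matrix (Fin 2) (Fin 2) F) 1 0 = _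
      simp [Matrix.mul_apply, Fin.sum_univ_two, Matrix.vecMul, dotProduct]
    rw [h5] at h3
    exact neg_eq_zero.1 h3
  rcases mul_self_eq_one_iff.1 (by rw [← pow_two]; exact a2 : g.1 0 0 * g.1 0 0 = 1) with h5 | h5
  · left
    apply Subtype.ext
    ext i j
    fin_cases i <;> fin_cases j <;> simp [a1, a3, h5, a4]
  · right
    apply Subtype.ext
    ext i j
    fin_cases i <;> fin_cases j <;> simp [a1, a3, h5, a4]

/-- the kernel for a pair -/
theorem pair_ker {K : Type*} [Field K] (h2 : (2 : K) ≠ 0) {φ : K →+* K} {j j' : ℕ} {hj : j < chevE6.nroots}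
    {hj' : j' < chevE6.nroots} {hso : ETable.Exc.SO chevE6 j j'} {g : Matrix.SpecialLinearGroup (Fin 2) K}
    (hg : pairHom φ hj hj' hso g = 1) : g = 1 ∨ g = -1 := by
  rw [pairHom_apply] at hg
  refine eq_pm_one h2 fun k => phi_ker h2 (SL2All.good_of_mem chevE6 hE6 j hj) ?_
  have h1 : phi (SL2All.good_of_mem chevE6 hE6 j hj) K g =
      (phi (SL2All.good_of_mem chevE6 hE6 j' hj') K (Matrix.SpecialLinearGroup.map φ g))⁻¹ :=
    mul_eq_one_iff_eq_inv.1 hg
  have h3 := (TwNode.phi_comm (K := K) hE6 hj hj' hso k (Matrix.SpecialLinearGroup.map φ g)).inv_right.eq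
  rw [map_mul, map_mul, map_mul, map_inv, map_inv, mul_inv_eq_one, mul_inv_eq_iff_eq_mul, h1]
  exact h3.symm

section

variable {K : Type} [Field K] {q : ℕ} {φ : K →+* K} (hφ : ∀ x, φ x = x ^ q) (hqq : ∀ t : K, (t ^ q) ^ q = t)

theorem isSL_of_node {i : Fin 4} {F : Type} [Field F] [Fintype F] (hF : Odd (Fintype.card F))
    {Ψ : Matrix.SpecialLinearGroup (Fin 2) F →* ↥(twistedE6 K q)} (N : Node hφ i Ψ)
    (hneg : ∀ g ∈ X φ q (-sr i), ∃ t, g = Ψ (lo t)) (hker : ∀ u, Ψ u = 1 → u = 1 ∨ u = -1) :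
    IsSL (Cfsg.Agent.Nodes.FreeTorus.LL (X φ q) (sr i)) := by
  refine ⟨F, inferInstance, inferInstance, Ψ, hF, hker, ?_⟩
  apply le_antisymm
  · rintro _ ⟨g, rfl⟩
    exact psi_mem Ψ (fun t => Subgroup.mem_sup_left (N.up_mem t)) (fun t => Subgroup.mem_sup_right (N.lo_mem t)) g
  · refine sup_le ?_ ?_
    · intro g hg
      obtain ⟨t, rfl⟩ := N.surj g hg
      exact ⟨_, rfl⟩
    · intro g hg
      obtain ⟨t, rfl⟩ := hneg g hg
      exact ⟨_, rfl⟩

section Single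

variable {F : Type} [Field F] (ι : F →+* K) (hι : ∀ s, (ι s) ^ q = ι s) (hs : ∀ t : K, t ^ q = t → ∃ s, ι s = t)
  {i : Fin 4} {j : ℕ} (C : SingleOK.{0} i j) (hj : j < chevE6.nroots)

include hφ hs in
theorem single_neg : ∀ g ∈ X φ q (-sr i), ∃ t, g = Rank.psi hE6 hj ι (fun t => C.pos_mem_G (q := q) (hι t))
    (fun t => C.neg_mem_G (q := q) (hι t)) (lo t) := by
  intro g hg
  rw [mem_X_neg] at hg
  obtain ⟨h1, h2⟩ := hg
  rw [C.neg] at h1
  obtain ⟨t, ht⟩ := rs_single h1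
  rw [ht] at h2
  have h3 : φ t = t := C.fix_neg h2
  rw [hφ] at h3
  obtain ⟨s, rfl⟩ := hs t h3
  refine ⟨s, Subtype.ext ?_⟩
  rw [Rank.psi_lo, ht]

theorem single_ker (h2 : (2 : K) ≠ 0) (u : Matrix.SpecialLinearGroup (Fin 2) F)
    (hu : Rank.psi hE6 hj ι (fun t => C.pos_mem_G (q := q) (hι t)) (fun t => C.neg_mem_G (q := q) (hι t)) u = 1) :
    u = 1 ∨ u = -1 := by
  have h1 := congrArg Subtype.val hu
  rw [Rank.coe_psi] at h1
  rcases phi_ker h2 _ h1 with h3 | h3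
  · left
    exact Rank.map_injective ι (by rw [h3, map_one])
  · right
    apply Rank.map_injective ι
    rw [h3]
    apply Subtype.ext
    ext a b
    fin_cases a <;> fin_cases b <;> simp

end Single

section Pair

variable {i : Fin 4} {j j' : ℕ} (C : PairOK.{0} i j j') (hj : j < chevE6.nroots) (hj' : j' < chevE6.nroots)
  (hso : ETable.Exc.SO chevE6 j j')

theorem pair_neg : ∀ g ∈ X φ q (-sr i), ∃ t, g = pairPsi hφ C hj hj' hso (lo t) := by
  intro g hg
  rw [mem_X_neg] at hg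
  obtain ⟨h1, h2⟩ := hg
  obtain ⟨t, s, ht⟩ := C.mem_neg h1
  rw [ht] at h2
  have h3 := C.fix_neg h2
  refine ⟨t, Subtype.ext ?_⟩
  rw [coe_pairPsi, pairHom_lo, ht, h3]

end Pair

end

end Cfsg.Agent.ClosedTw

end

-- merged: Cfsg.Agent.ClosedTw.Links
section

/-!
# Links and commuting rank one subgroups of `²E₆(q)`, `q` odd (helper75, S1252)
-/

set_option autoImplicit false
set_option linter.unusedSectionVars false

namespace Cfsg.Agent.ClosedTw

open CoxeterSystem Subgroup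
open Cfsg.Agent.ChevalleyStructure.CoxeterGeom Cfsg.Agent.Tits.Roots Cfsg.Agent.Tits.Core
  Cfsg.Agent.Nodes.Reps Cfsg.Agent.Nodes.BNOf Cfsg.Agent.Nodes.Bruhat
open Cfsg.Lie Cfsg.Agent.ChevalleyStructure Cfsg.Agent.ChevalleyStructure.Elts
  Cfsg.Agent.ChevalleyStructure.TwE6Basic Cfsg.Agent.ChevalleyStructure.TwE6BN
open Cfsg.Agent.Nodes Cfsg.Agent.Nodes.RGDChev Cfsg.Agent.Nodes.RGDFold Cfsg.Agent.Nodes.RGDTwGen
open Cfsg.Agent.Nodes.RGDTwE6 (X nn isCartan foldData)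
open Cfsg.Agent.ChevalleyStructure.SL2Rep (Good)
open Cfsg.Agent.ChevalleyStructure.SL2Hom
open Cfsg.Agent.GpExc Cfsg.Agent.GpExc.TwNode
open Cfsg.Agent.Nodes.FreeTorus (LL)
open Cfsg.Agent.ClosedTwo.Torus Cfsg.Agent.ClosedTwo.Elem Cfsg.Agent.ClosedExc Cfsg.Agent.ClosedExc.Rk
  Cfsg.Agent.ClosedExc.Frame

variable {K : Type} [Field K] {q : ℕ} {φ : K →+* K} (hφ : ∀ x, φ x = x ^ q) (hqq : ∀ t : K, (t ^ q) ^ q = t)

/-- the square of `up 1 * lo (-1) * up 1` -/
theorem w_sq {F : Type*} [Field F] : (up (1 : F) * lo (-1) * up 1) * (up (1 : F) * lo (-1) * up 1) = -1 := by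
  apply Subtype.ext
  show (!![(1 : F), 1; 0, 1] * !![1, 0; -1, 1] * !![1, 1; 0, 1]) *
    (!![(1 : F), 1; 0, 1] * !![1, 0; -1, 1] * !![1, 1; 0, 1]) = -1
  ext i j
  fin_cases i <;> fin_cases j <;> simp [Matrix.mul_apply, Fin.sum_univ_two]

/-- the product of the `h_j(-1)` of a block -/
noncomputable def hI (K : Type) [Field K] (o : List (Fin 6)) : GL chevE6.Idx K :=
  (o.map fun j : Fin 6 => hG hE6 (chevE6.simple j) (-1 : K)).prod

/-- the action of `hI` -/
theorem hI_conj (o : List (Fin 6)) {s : ℕ} (hs : s < chevE6.nroots) (t : K) :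
    hI K o * xG hE6 s t * (hI K o)⁻¹ = xG hE6 s ((-1) ^ ((o.map fun j : Fin 6 => chevE6.cartan j s).sum) * t) := by
  induction o with
  | nil => simp [hI]
  | cons j o ih =>
    have h1 : hI K (j :: o) = hG hE6 (chevE6.simple j) (-1 : K) * hI K o := by
      unfold hI; rw [List.map_cons, List.prod_cons]
    rw [h1, List.map_cons, List.sum_cons, zpow_add₀ (by norm_num), mul_inv_rev]
    have h2 : hG hE6 (chevE6.simple j) (-1 : K) * hI K o * xG hE6 s t * ((hI K o)⁻¹ *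
        (hG hE6 (chevE6.simple j) (-1 : K))⁻¹) = hG hE6 (chevE6.simple j) (-1 : K) *
        (hI K o * xG hE6 s t * (hI K o)⁻¹) * (hG hE6 (chevE6.simple j) (-1 : K))⁻¹ := by group
    rw [h2, ih, BruhatSplit.hG_simple_conj hE6 j.2 hs (by norm_num)]
    congr 1
    ring

theorem hG_sq (r : ℕ) : (nG hE6 r (1 : K))⁻¹ * (nG hE6 r (1 : K))⁻¹ = hG hE6 r (-1 : K) :=
  (NConj.hG_neg_one hE6 r).symm

theorem sq_pair {j j' : ℕ} {i : Fin 4} (C : PairOK.{0} i j j') :
    (nG hE6 j (1 : K) * nG hE6 j' 1)⁻¹ * (nG hE6 j (1 : K) * nG hE6 j' 1)⁻¹ =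
      hG hE6 j (-1 : K) * hG hE6 j' (-1 : K) := by
  have h1 : Commute (nG hE6 j' (1 : K)) (nG hE6 j (1 : K)) := C.commN 1 1
  rw [← hG_sq, ← hG_sq, mul_inv_rev]
  have h2 : Commute (nG hE6 j' (1 : K))⁻¹ (nG hE6 j (1 : K))⁻¹ := h1.inv_inv
  have h3 := h2.eq
  calc _ = (nG hE6 j' (1 : K))⁻¹ * (nG hE6 j (1 : K))⁻¹ * ((nG hE6 j' (1 : K))⁻¹ * (nG hE6 j (1 : K))⁻¹) := by group
    _ = (nG hE6 j (1 : K))⁻¹ * (nG hE6 j' (1 : K))⁻¹ * ((nG hE6 j (1 : K))⁻¹ * (nG hE6 j' (1 : K))⁻¹) := by rw [h3]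
    _ = (nG hE6 j (1 : K))⁻¹ * ((nG hE6 j' (1 : K))⁻¹ * (nG hE6 j (1 : K))⁻¹) * (nG hE6 j' (1 : K))⁻¹ := by group
    _ = _ := by rw [h3]; group

/-- `n_i⁻²` -/
theorem coe_nn_sq (i : Fin 4) : (((nn hφ i)⁻¹ * (nn hφ i)⁻¹ : ↥(twistedE6 K q)) : GL chevE6.Idx K) =
    hI K (RGDTwE6.J i) := by
  rw [Subgroup.coe_mul, Subgroup.coe_inv, coe_nn]
  fin_cases i
  · show (n (K := K) 0)⁻¹ * (n (K := K) 0)⁻¹ = hI K [1]
    rw [single0.Jn K]
    show (nG hE6 46 (1 : K))⁻¹ * (nG hE6 46 (1 : K))⁻¹ = _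
    rw [hG_sq]
    simp [hI]
    rfl
  · show (n (K := K) 1)⁻¹ * (n (K := K) 1)⁻¹ = hI K [3]
    rw [single1.Jn K]
    show (nG hE6 39 (1 : K))⁻¹ * (nG hE6 39 (1 : K))⁻¹ = _
    rw [hG_sq]
    simp [hI]
    rfl
  · show (n (K := K) 2)⁻¹ * (n (K := K) 2)⁻¹ = hI K [2, 4]
    rw [pair2.Jn K]
    show (nG hE6 42 (1 : K) * nG hE6 37 1)⁻¹ * (nG hE6 42 (1 : K) * nG hE6 37 1)⁻¹ = _
    rw [sq_pair pair2]
    simp [hI]
    rfl
  · show (n (K := K) 3)⁻¹ * (n (K := K) 3)⁻¹ = hI K [0, 5]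
    rw [pair3.Jn K]
    show (nG hE6 56 (1 : K) * nG hE6 36 1)⁻¹ * (nG hE6 56 (1 : K) * nG hE6 36 1)⁻¹ = _
    rw [sq_pair pair3]
    simp [hI]
    rfl

theorem simple_lt : ∀ j : Fin 6, chevE6.simple j < chevE6.nroots := by decide +kernel

theorem hI_mem (o : List (Fin 6)) : hI K o ∈ chevE6.diagonalSubgroup K := by
  unfold hI
  refine Subgroup.list_prod_mem _ ?_
  intro g hg
  obtain ⟨j, -, rfl⟩ := List.mem_map.1 hg
  exact hG_mem_diagonal hE6 (simple_lt j) (by norm_num)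

/-- the parity of the action of `h_i(-1)` on the root groups of the node `j` -/
def par (i j : Fin 4) : Prop := ∀ s ∈ posE j, Odd (((RGDTwE6.J i).map fun a : Fin 6 => chevE6.cartan a s).sum)

instance (i j : Fin 4) : Decidable (par i j) := by unfold par; infer_instance

theorem neg_one_zpow_odd {m : ℤ} (hm : Odd m) : (-1 : K) ^ m = -1 := Odd.neg_one_zpow hm

include hqq in
/-- **a link from the involution of the node `i`** -/
theorem link_z {i j : Fin 4} (h2 : (2 : K) ≠ 0) (hp : par i j) {F : Type} [Field F]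
    {Ψ : Matrix.SpecialLinearGroup (Fin 2) F →* ↥(twistedE6 K q)} (N : Node hφ i Ψ) :
    Link (RGDTwE6.T K q) (X φ q) i j := by
  left
  have hn : nn hφ i ∈ LL (X φ q) (sr i) := N.n_mem hφ le_sup_left le_sup_right
  refine ⟨(nn hφ i)⁻¹ * (nn hφ i)⁻¹, mul_mem (inv_mem hn) (inv_mem hn), ?_, ?_, ?_⟩
  · have h3 : (nn hφ i)⁻¹ * (nn hφ i)⁻¹ = (Ψ (-1))⁻¹ := by
      rw [← mul_inv_rev, N.n_eq, ← map_mul, w_sq]
    rw [h3, ← map_inv, ← map_mul]
    have h4 : (-1 : Matrix.SpecialLinearGroup (Fin 2) F)⁻¹ * (-1)⁻¹ = 1 := by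
      rw [← mul_inv_rev, neg_mul_neg, mul_one, inv_one]
    rw [h4, map_one]
  · show _ ∈ (chevE6.diagonalSubgroup K ⊓ twistedE6 K q).subgroupOf (twistedE6 K q)
    rw [Subgroup.mem_subgroupOf, coe_nn_sq]
    refine ⟨hI_mem _, ?_⟩
    rw [← coe_nn_sq hφ]
    exact Subtype.property _
  · have h1 : (-1 : K) ≠ 1 := by
      intro h
      apply h2
      linear_combination -h
    rcases TwE6BN.classes.{0} j with ⟨s, C⟩ | ⟨s, s', C⟩
    · have hs : s < chevE6.nroots := C.lt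
      have hmem : x s (1 : K) ∈ twistedE6 K q := C.pos_mem_G (one_pow q)
      refine ⟨⟨x s 1, hmem⟩, Subgroup.mem_sup_left ?_, ?_⟩
      · rw [mem_X_pos]
        exact ⟨x_mem_rs (by rw [C.pos]; simp) _, twisted_le_fix φ hφ hqq hmem⟩
      · intro h3
        have h4 := congrArg Subtype.val (mul_inv_eq_iff_eq_mul.2 h3)
        rw [Subgroup.coe_mul, Subgroup.coe_mul, Subgroup.coe_inv, coe_nn_sq] at h4
        have h5 : hI K (RGDTwE6.J i) * xG hE6 s (1 : K) * (hI K (RGDTwE6.J i))⁻¹ = xG hE6 s 1 := h4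
        rw [hI_conj _ hs, neg_one_zpow_odd (hp s (by rw [C.pos]; simp)), mul_one] at h5
        exact h1 (x_injective C.lt h5)
    · have hs : s < chevE6.nroots := C.lt
      have hs' : s' < chevE6.nroots := C.lt'
      have hmem : x s (1 : K) * x s' ((1 : K) ^ q) ∈ twistedE6 K q := C.pos_mem_G 1
      rw [one_pow] at hmem
      refine ⟨⟨x s 1 * x s' 1, hmem⟩, Subgroup.mem_sup_left ?_, ?_⟩
      · rw [mem_X_pos]
        exact ⟨mul_mem (x_mem_rs (by rw [C.pos]; simp) _) (x_mem_rs (by rw [C.pos]; simp) _),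
          twisted_le_fix φ hφ hqq hmem⟩
      · intro h3
        have h4 := congrArg Subtype.val (mul_inv_eq_iff_eq_mul.2 h3)
        rw [Subgroup.coe_mul, Subgroup.coe_mul, Subgroup.coe_inv, coe_nn_sq] at h4
        have h5 : hI K (RGDTwE6.J i) * (x s (1 : K) * x s' 1) * (hI K (RGDTwE6.J i))⁻¹ = x s 1 * x s' 1 := h4
        have h6 : hI K (RGDTwE6.J i) * (x s (1 : K) * x s' 1) * (hI K (RGDTwE6.J i))⁻¹ =
            hI K (RGDTwE6.J i) * xG hE6 s 1 * (hI K (RGDTwE6.J i))⁻¹ *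
            (hI K (RGDTwE6.J i) * xG hE6 s' 1 * (hI K (RGDTwE6.J i))⁻¹) := by group
        rw [h6, hI_conj _ hs, hI_conj _ hs', neg_one_zpow_odd (hp s (by rw [C.pos]; simp)),
          neg_one_zpow_odd (hp s' (by rw [C.pos]; simp)), mul_one] at h5
        exact h1 (C.x_pair_inj h5).1

theorem par01 : par 0 1 := by decide +kernel
theorem par10 : par 1 0 := by decide +kernel
theorem par12 : par 1 2 := by decide +kernel
theorem par23 : par 2 3 := by decide +kernel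
theorem par32 : par 3 2 := by decide +kernel

/-! ### commuting rank one groups -/

theorem V_inj0 : ∀ k < chevE6.nroots, ∀ k' < chevE6.nroots, V chevE6 RGDTwE6.J k = V chevE6 RGDTwE6.J k' →
    k' = k ∨ k' = TwistedE6Sigma.rho k := by decide +kernel

/-- the root group of a fixed root -/
theorem mem_X_fixed {k : ℕ} (hk : k < chevE6.nroots) (hr : TwistedE6Sigma.rho k = k) {g : ↥(twistedE6 K q)}
    (hg : g ∈ X φ q (V chevE6 RGDTwE6.J k)) : ∃ t : K, (g : GL chevE6.Idx K) = xG hE6 k t := by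
  unfold X at hg
  rw [Subgroup.mem_subgroupOf] at hg
  have h1 : (g : GL chevE6.Idx K) ∈ TwistedU.rspan (xG RGDTwE6.hp.inList)
      {k' | k' < chevE6.nroots ∧ V chevE6 RGDTwE6.J k' = V chevE6 RGDTwE6.J k} := hg.1
  have h2 : TwistedU.rspan (xG (F := K) RGDTwE6.hp.inList)
      {k' | k' < chevE6.nroots ∧ V chevE6 RGDTwE6.J k' = V chevE6 RGDTwE6.J k} ≤ rs K [k] := by
    refine TwistedU.rspan_le _ fun k' hk' t => ?_
    rcases V_inj0 k hk k' hk'.1 hk'.2.symm with rfl | h3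
    · exact x_mem_rs (by simp) t
    · rw [hr] at h3
      subst h3
      exact x_mem_rs (by simp) t
  exact rs_single (h2 h1)

/-- **commuting rank one groups** -/
theorem lc {k k' : ℕ} (hk : k < chevE6.nroots) (hk' : k' < chevE6.nroots) (hr : TwistedE6Sigma.rho k = k)
    (hr' : TwistedE6Sigma.rho k' = k') (hn : chevE6.neg k < chevE6.nroots) (hn' : chevE6.neg k' < chevE6.nroots)
    (hrn : TwistedE6Sigma.rho (chevE6.neg k) = chevE6.neg k)
    (hrn' : TwistedE6Sigma.rho (chevE6.neg k') = chevE6.neg k') (hso : ETable.Exc.SO chevE6 k k') :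
    LC (X φ q) (V chevE6 RGDTwE6.J k) (V chevE6 RGDTwE6.J k') := by
  obtain ⟨h1, h2, h3, h4⟩ := hso
  have hc : RGDTwE6.hp.checked = RGDTwE6.hp.checked := rfl
  have e : -V chevE6 RGDTwE6.J k = V chevE6 RGDTwE6.J (chevE6.neg k) := (V_neg RGDTwE6.hp.checked hk).symm
  have e' : -V chevE6 RGDTwE6.J k' = V chevE6 RGDTwE6.J (chevE6.neg k') := (V_neg RGDTwE6.hp.checked hk').symm
  intro a ha b hb
  -- the elements of `LL X (V k)` commute with the generators of `LL X (V k')`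
  have key : ∀ b : ↥(twistedE6 K q), (b ∈ X φ q (V chevE6 RGDTwE6.J k') ∨ b ∈ X φ q (-V chevE6 RGDTwE6.J k')) →
      LL (X φ q) (V chevE6 RGDTwE6.J k) ≤ Subgroup.centralizer ({b} : Set ↥(twistedE6 K q)) := by
    intro b hb
    refine sup_le ?_ ?_
    · intro a ha
      obtain ⟨t, ht⟩ := mem_X_fixed hk hr ha
      rw [Subgroup.mem_centralizer_singleton_iff]
      apply Subtype.ext
      rw [Subgroup.coe_mul, Subgroup.coe_mul, ht]
      rcases hb with hb | hb
      · obtain ⟨s, hs⟩ := mem_X_fixed hk' hr' hb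
        rw [hs]
        exact ETable.Exc.comm_of_so hE6 h1 _ _
      · rw [e'] at hb
        obtain ⟨s, hs⟩ := mem_X_fixed hn' hrn' hb
        rw [hs]
        exact ETable.Exc.comm_of_so hE6 h2 _ _
    · intro a ha
      rw [e] at ha
      obtain ⟨t, ht⟩ := mem_X_fixed hn hrn ha
      rw [Subgroup.mem_centralizer_singleton_iff]
      apply Subtype.ext
      rw [Subgroup.coe_mul, Subgroup.coe_mul, ht]
      rcases hb with hb | hb
      · obtain ⟨s, hs⟩ := mem_X_fixed hk' hr' hb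
        rw [hs]
        exact ETable.Exc.comm_of_so hE6 h3 _ _
      · rw [e'] at hb
        obtain ⟨s, hs⟩ := mem_X_fixed hn' hrn' hb
        rw [hs]
        exact ETable.Exc.comm_of_so hE6 h4 _ _
  have h5 : LL (X φ q) (V chevE6 RGDTwE6.J k') ≤ Subgroup.centralizer ({a} : Set ↥(twistedE6 K q)) := by
    refine sup_le ?_ ?_
    · intro b hb
      rw [Subgroup.mem_centralizer_singleton_iff]
      exact (Subgroup.mem_centralizer_singleton_iff.1 (key b (Or.inl hb) ha)).symm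
    · intro b hb
      rw [Subgroup.mem_centralizer_singleton_iff]
      exact (Subgroup.mem_centralizer_singleton_iff.1 (key b (Or.inr hb) ha)).symm
  exact (Subgroup.mem_centralizer_singleton_iff.1 (h5 hb)).symm

/-! ### the last link -/

theorem even21 : ∀ s ∈ posE 1 ++ negE 1, s < chevE6.nroots ∧
    Even (((RGDTwE6.J 2).map fun a : Fin 6 => chevE6.cartan a s).sum) := by decide +kernel

theorem V39 : V chevE6 RGDTwE6.J 39 = sr 1 := by decide +kernel

theorem V44 : V chevE6 RGDTwE6.J 44 = sr 1 - pairing RGDTwE6.A 2 (sr 1) • sr 2 := by decide +kernel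

theorem so44 : ETable.Exc.SO chevE6 44 39 := by decide +kernel

theorem rho_ok : ∀ k ∈ [39, 44, chevE6.neg 39, chevE6.neg 44], k < chevE6.nroots ∧ TwistedE6Sigma.rho k = k := by
  decide +kernel

include hqq in
/-- **the link from the node `2` to the node `1`** -/
theorem link21 [Finite K] {W : Type*} [Group W] [Finite W] (cs : CoxeterSystem CoxeterMatrix.F₄ W) {F : Type}
    [Field F] {Ψ : Matrix.SpecialLinearGroup (Fin 2) F →* ↥(twistedE6 K q)} (N : Node hφ 2 Ψ) :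
    Link (RGDTwE6.T K q) (X φ q) 2 1 := by
  have := Fintype.ofFinite K
  obtain ⟨p, hp'⟩ := CharP.exists K
  have : Fact p.Prime := ⟨CharP.char_is_prime K p⟩
  have R := RGDTwE6.rgd cs hφ hqq p
  right
  have hn : nn hφ 2 ∈ LL (X φ q) (sr 2) := N.n_mem hφ le_sup_left le_sup_right
  refine ⟨nn hφ 2, hn, 2, ?_, ?_, ?_⟩
  · have h1 : (up (1 : F) * lo (-1) * up 1) ^ 2 ^ 2 = 1 := by
      have h3 := w_sq (F := F)
      calc (up (1 : F) * lo (-1) * up 1) ^ 2 ^ 2 = ((up (1 : F) * lo (-1) * up 1) * (up (1 : F) * lo (-1) * up 1)) *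
          ((up (1 : F) * lo (-1) * up 1) * (up (1 : F) * lo (-1) * up 1)) := by
            rw [show (2 : ℕ) ^ 2 = 4 by norm_num, pow_succ, pow_succ, pow_succ, pow_one]; group
        _ = 1 := by rw [h3, neg_mul_neg, mul_one]
    rw [N.n_eq, ← map_pow, h1, map_one]
  · -- the square centralizes
    have h3 : LL (X φ q) (sr 1) ≤ Subgroup.centralizer ({(nn hφ 2)⁻¹ * (nn hφ 2)⁻¹} : Set ↥(twistedE6 K q)) := by
      refine sup_le ?_ ?_
      · intro g hg
        rw [mem_X_pos] at hg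
        have h4 := hg.1
        rw [single1.{0}.pos] at h4
        obtain ⟨t, ht⟩ := rs_single h4
        obtain ⟨h5, h6⟩ := even21 39 (by rw [single1.{0}.pos]; simp)
        rw [Subgroup.mem_centralizer_singleton_iff]
        apply Subtype.ext
        show (g : GL chevE6.Idx K) * (((nn hφ 2)⁻¹ * (nn hφ 2)⁻¹ : ↥(twistedE6 K q)) : GL chevE6.Idx K) =
          (((nn hφ 2)⁻¹ * (nn hφ 2)⁻¹ : ↥(twistedE6 K q)) : GL chevE6.Idx K) * (g : GL chevE6.Idx K)
        rw [coe_nn_sq, ht]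
        have h7 := hI_conj (K := K) (RGDTwE6.J 2) h5 t
        rw [h6.neg_one_zpow, one_mul, mul_inv_eq_iff_eq_mul] at h7
        exact h7.symm
      · intro g hg
        rw [mem_X_neg] at hg
        have h4 := hg.1
        rw [single1.{0}.neg] at h4
        obtain ⟨t, ht⟩ := rs_single h4
        obtain ⟨h5, h6⟩ := even21 (chevE6.neg 39) (by rw [single1.{0}.neg]; simp)
        rw [Subgroup.mem_centralizer_singleton_iff]
        apply Subtype.ext
        show (g : GL chevE6.Idx K) * (((nn hφ 2)⁻¹ * (nn hφ 2)⁻¹ : ↥(twistedE6 K q)) : GL chevE6.Idx K) =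
          (((nn hφ 2)⁻¹ * (nn hφ 2)⁻¹ : ↥(twistedE6 K q)) : GL chevE6.Idx K) * (g : GL chevE6.Idx K)
        rw [coe_nn_sq, ht]
        have h7 := hI_conj (K := K) (RGDTwE6.J 2) h5 t
        rw [h6.neg_one_zpow, one_mul, mul_inv_eq_iff_eq_mul] at h7
        exact h7.symm
    intro x hx
    have h4 := Subgroup.mem_centralizer_singleton_iff.1 (h3 hx)
    have h6 : nn hφ 2 * (nn hφ 2 * x * (nn hφ 2)⁻¹) * (nn hφ 2)⁻¹ =
        ((nn hφ 2)⁻¹ * (nn hφ 2)⁻¹)⁻¹ * (x * ((nn hφ 2)⁻¹ * (nn hφ 2)⁻¹)) := by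
      rw [mul_inv_rev, inv_inv]
      simp only [mul_assoc]
    rw [h6, h4, inv_mul_cancel_left]
  · intro x hx y hy
    have h1 := rp_cj_LL R (rp_simple cs R.nsys 2) (isRoot_sr cs isCartan 1)
    have h3 : rep cs isCartan (cs.simple 2) (sr 1) = V chevE6 RGDTwE6.J 44 := by
      rw [V44, rep_simple_eq]
    rw [h3] at h1
    have h4 : nn hφ 2 * x * (nn hφ 2)⁻¹ ∈ LL (X φ q) (V chevE6 RGDTwE6.J 44) := by
      rw [← h1]
      exact conj_mem_cj.2 hx
    have hr := rho_ok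
    simp only [List.mem_cons, List.not_mem_nil, or_false, forall_eq_or_imp, forall_eq] at hr
    obtain ⟨⟨a1, b1⟩, ⟨a2, b2⟩, ⟨a3, b3⟩, ⟨a4, b4⟩⟩ := hr
    have h5 := lc (q := q) (φ := φ) a2 a1 b2 b1 a4 a3 b4 b3 so44
    rw [V39] at h5
    exact h5 _ h4 _ hy

end Cfsg.Agent.ClosedTw

end
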